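import Cfsg.Agent.H875.Mono.SplitB
import Cfsg.Agent.H46.X4.NoPlus

/-!
# S2187, M6b (helper875): `PNoPlusA m`, `PNoPlusB m` without hypotheses
-/

set_option autoImplicit false
set_option linter.unusedSectionVars false

universe v

namespace Cfsg.Agent.H875.Mono

open CoxeterSystem Cfsg Cfsg.Lie Cfsg.Lie.ChevalleyDatum
open Cfsg.Agent.ChevalleyStructure Cfsg.Agent.ChevalleyStructure.Elts Cfsg.Agent.ChevalleyStructure.CoxeterGeom
  Cfsg.Agent.ChevalleyStructure.CoxeterGeomTypes Cfsg.Agent.ChevalleyStructure.NPerm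
open Cfsg.Agent.Tits.Roots Cfsg.Agent.Tits.Core Cfsg.Agent.Nodes Cfsg.Agent.Nodes.Reps Cfsg.Agent.Nodes.BNOf
  Cfsg.Agent.Nodes.SubComb Cfsg.Agent.Nodes.RGDChev Cfsg.Agent.Nodes.Bruhat Cfsg.Agent.Nodes.Coroot
open Cfsg.Agent.KFacts.RgdField Cfsg.Agent.KFacts.RgdChevCoord
open Cfsg.Agent.BpExc Cfsg.Agent.BpExc.TorCent Cfsg.Agent.BpExc.TorChev Cfsg.Agent.BpExc.Tow
  Cfsg.Agent.BpExc.TowChev Cfsg.Agent.BpExc.Fr Cfsg.Agent.BpExc.LangFr
open Cfsg.Agent.H469.Exc Cfsg.Agent.H316.U6 Cfsg.Agent.H818.Gen Cfsg.Agent.H818.Mono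
open Cfsg.Agent.H496.Mono Cfsg.Agent.H46.X4 Cfsg.Agent.H818.StrP.UTab

theorem pstab {D : ChevalleyDatum} {l : ℕ} {M : CoxeterMatrix (Fin l)} (h : HiList D) (hp : IsType D l M) :
    PStab hp := fun _ _ hc hw hv _ hb h1 => stab h hp _ hc hw hv hb h1

theorem psplitA {D : ChevalleyDatum} {l : ℕ} {M : CoxeterMatrix (Fin l)} (h : HiList D) (hp : IsType D l M) :
    PSplitA hp := fun _ hw _ hb h1 _ _ h0 h1' => splitA h hp _ hw hb h1 h0 h1'

theorem psplitB {M : CoxeterMatrix (Fin 6)} (hp : IsType chevE6 6 M) :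
    PSplitB hp := fun _ _ hε hγ _ hw hγw _ hb h1 _ _ h0 h1' => splitB hp hε hγ hw hγw hb h1 h0 h1'

variable {r : ℕ} [Fact r.Prime] {q : ℕ} {K₀ : Type v} [Group K₀]

/-- **M6b**, `γ = ε` -/
theorem pnoPlusA {D : ChevalleyDatum} {l : ℕ} {M : CoxeterMatrix (Fin l)} (h : HiList D) {hp : IsType D l M}
    (m : MData hp r q K₀) : PNoPlusA m := noPlusA h (pstab h hp) (psplitA h hp) m

/-- **M6b**, `E₆`, `γ = ε ρ` -/
theorem pnoPlusB {M : CoxeterMatrix (Fin 6)} {hp : IsType chevE6 6 M} (m : MData hp r q K₀) : PNoPlusB m :=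
  noPlusB (by simp [HiList]) (pstab (by simp [HiList]) hp) (psplitB hp) m

end Cfsg.Agent.H875.Mono
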