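import Cfsg.Agent.H875.Mono.Split
import Cfsg.Agent.H496.Mono.Stmt

/-!
# S2187, M4a (helper875): the orbits of long roots under an elementary abelian 3-group without `60°`

* `trich` : fixed, three orthogonal roots, three roots with sum zero, or nine roots forming three orthogonal triples with
  sum zero; `ptrich` : `PTrich hp`.
-/

set_option autoImplicit false
set_option linter.unusedSectionVars false

namespace Cfsg.Agent.H875.Mono

open CoxeterSystem Cfsg Cfsg.Lie Cfsg.Lie.ChevalleyDatum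
open Cfsg.Agent.ChevalleyStructure Cfsg.Agent.ChevalleyStructure.Elts Cfsg.Agent.ChevalleyStructure.CoxeterGeom
  Cfsg.Agent.ChevalleyStructure.CoxeterGeomTypes Cfsg.Agent.ChevalleyStructure.NPerm
open Cfsg.Agent.Tits.Roots Cfsg.Agent.Tits.Core Cfsg.Agent.Nodes Cfsg.Agent.Nodes.Reps Cfsg.Agent.Nodes.BNOf
  Cfsg.Agent.Nodes.Coroot Cfsg.Agent.Nodes.SubComb Cfsg.Agent.KFacts.RgdSL Cfsg.Agent.H123.ExcComb
  Cfsg.Agent.Nodes.RGDChev Cfsg.Agent.BpExc.Fr
open Cfsg.Agent.H818.StrP.UTab Cfsg.Agent.H818.StrP.UAct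
open Cfsg.Agent.H225.Gen (LL LL_rep LL_root LL_refl LL_conn LL_span th th_root Conn)

/-- nine orthogonal vectors in dimension eight -/
theorem RSys.nineO {l : ℕ} {B : (Fin l → ℤ) → (Fin l → ℤ) → ℚ} {S : Set (Fin l → ℤ)} (H : RSys B S)
    {w v : Module.End ℤ (Fin l → ℤ)} (hl : l ≤ 8) (hw : ∀ x y, B (w x) (w y) = B x y)
    (hw3 : ∀ x, w (w (w x)) = x) (hv : ∀ x y, B (v x) (v y) = B x y) (hv3 : ∀ x, v (v (v x)) = x)
    (hc : ∀ x, w (v x) = v (w x)) {b : Fin l → ℤ} (h0 : B b b = 2) (hb1 : B b (w b) = 0) (hb2 : B b (w (w b)) = 0)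
    (e0 : B b (v b) = 0) (e1 : B b (v (w b)) = 0) (e2 : B b (v (w (w b))) = 0)
    (f0 : B b (v (v b)) = 0) (f1 : B b (v (v (w b))) = 0) (f2 : B b (v (v (w (w b)))) = 0) : False := by
  have hwl : ∀ x y, B (w x) y = B x (w (w y)) := fun x y => by rw [← hw x, hw3]
  have hvl : ∀ x y, B (v x) y = B x (v (v y)) := fun x y => by rw [← hv x, hv3]
  let f : Fin 9 → Fin l → ℤ := ![b, w b, w (w b), v b, v (w b), v (w (w b)), v (v b), v (v (w b)), v (v (w (w b)))]
  have hli : LinearIndependent ℤ f := by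
    rw [Fintype.linearIndependent_iff]
    intro n hn
    have key : ∀ y, ∑ p, n p * B (f p) y = 0 := fun y => by
      have h2 := H.sum_left Finset.univ n f y
      rw [hn, H.zero_left] at h2
      exact h2.symm
    have k0 := key b
    have k1 := key (w b)
    have k2 := key (w (w b))
    have k3 := key (v b)
    have k4 := key (v (w b))
    have k5 := key (v (w (w b)))
    have k6 := key (v (v b))
    have k7 := key (v (v (w b)))
    have k8 := key (v (v (w (w b))))
    simp only [Fin.sum_univ_succ, f, Matrix.cons_val_zero, Matrix.cons_val_succ, Finset.univ_unique,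
      Fin.default_eq_zero, Finset.sum_singleton] at k0 k1 k2 k3 k4 k5 k6 k7 k8
    simp only [hvl, hwl, hc, hw3, hv3, h0, hb1, hb2, e0, e1, e2, f0, f1, f2, mul_zero, add_zero, zero_add,
      mul_eq_zero, Int.cast_eq_zero, OfNat.ofNat_ne_zero, or_false] at k0 k1 k2 k3 k4 k5 k6 k7 k8
    intro i
    fin_cases i <;> assumption
  have h2 := hli.fintype_card_le_finrank
  rw [Module.finrank_fintype_fun_eq_card, Fintype.card_fin, Fintype.card_fin] at h2
  omega

variable {D : ChevalleyDatum} {l : ℕ} {M : CoxeterMatrix (Fin l)} {W : Type*} [Group W]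
variable (h : HiList D) (hp : IsType D l M) (cs : CoxeterSystem M W)

/-- the elements of `V` mapping `a` into the orbit of `⟨g, f⟩` -/
def OT (V : Subgroup W) (hc : ∀ v ∈ V, ∀ w ∈ V, v * w = w * v) (h3 : ∀ v ∈ V, v ^ 3 = 1) {g f : W} (hg : g ∈ V)
    (hf : f ∈ V) (a : Fin l → ℤ) : Subgroup W where
  carrier := {v | v ∈ V ∧ ∃ i j : ℕ, rep cs hp.isCartan v a = rep cs hp.isCartan (g ^ i * f ^ j) a}
  one_mem' := ⟨one_mem _, 0, 0, by rw [pow_zero, pow_zero, one_mul]⟩
  mul_mem' := by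
    rintro v w ⟨hv, i, j, e⟩ ⟨hw, i', j', e'⟩
    refine ⟨mul_mem hv hw, i + i', j + j', ?_⟩
    have hu' : g ^ i' * f ^ j' ∈ V := mul_mem (pow_mem hg _) (pow_mem hf _)
    rw [rep_mul_apply, e', ← rep_mul_apply, hc v hv _ hu', rep_mul_apply, e, ← rep_mul_apply]
    congr 2
    rw [pow_add, pow_add]
    have h1 := hc _ (pow_mem hf j') _ (pow_mem hg i)
    have h2 := hc _ (pow_mem hg i') _ (pow_mem hg i)
    have h4 := hc _ (pow_mem hf j') _ (pow_mem hf j)
    calc g ^ i' * f ^ j' * (g ^ i * f ^ j) = g ^ i' * (f ^ j' * g ^ i) * f ^ j := by group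
      _ = (g ^ i' * g ^ i) * (f ^ j' * f ^ j) := by rw [h1]; group
      _ = _ := by rw [h2, h4]
  inv_mem' := by
    rintro v ⟨hv, i, j, e⟩
    refine ⟨inv_mem hv, 2 * i, 2 * j, ?_⟩
    have hu : g ^ i * f ^ j ∈ V := mul_mem (pow_mem hg _) (pow_mem hf _)
    have h1 : g ^ (2 * i) * f ^ (2 * j) = (g ^ i * f ^ j)⁻¹ := by
      have h4 := hc _ (pow_mem hf j) _ (pow_mem hg i)
      have h5 := h3 _ hu
      have h6 : g ^ (2 * i) * f ^ (2 * j) = (g ^ i * f ^ j) * (g ^ i * f ^ j) := by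
        rw [two_mul, two_mul, pow_add, pow_add]
        calc g ^ i * g ^ i * (f ^ j * f ^ j) = g ^ i * (g ^ i * f ^ j) * f ^ j := by simp only [mul_assoc]
          _ = g ^ i * (f ^ j * g ^ i) * f ^ j := by rw [h4]
          _ = _ := by simp only [mul_assoc]
      rw [h6]
      refine eq_inv_of_mul_eq_one_left ?_
      rw [← h5, pow_succ, pow_two]
    rw [h1]
    have h2 : rep cs hp.isCartan (v * (g ^ i * f ^ j)⁻¹) a = a := by
      rw [hc _ hv _ (inv_mem hu), rep_mul_apply, e, ← rep_mul_apply, inv_mul_cancel, map_one, Module.End.one_apply]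
    calc rep cs hp.isCartan v⁻¹ a = rep cs hp.isCartan v⁻¹ (rep cs hp.isCartan (v * (g ^ i * f ^ j)⁻¹) a) := by rw [h2]
      _ = _ := by rw [← rep_mul_apply]; congr 2; group

theorem mem_OT {V : Subgroup W} {hc : ∀ v ∈ V, ∀ w ∈ V, v * w = w * v} {h3 : ∀ v ∈ V, v ^ 3 = 1} {g f : W}
    {hg : g ∈ V} {hf : f ∈ V} {a : Fin l → ℤ} {v : W} : v ∈ OT hp cs V hc h3 hg hf a ↔
      v ∈ V ∧ ∃ i j : ℕ, rep cs hp.isCartan v a = rep cs hp.isCartan (g ^ i * f ^ j) a := Iff.rfl

/-- the powers -/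
theorem pow_ij {T₁ T₂ : Subgroup W} (hT : T₁ ≤ T₂) {g k : W} (hg : g ∉ T₁) (hg' : g ∈ T₂) (hk : k ∉ T₂)
    (g3 : g ^ 3 = 1) (k3 : k ^ 3 = 1) : g ∉ T₁ ∧ g * g ∉ T₁ ∧ k ∉ T₁ ∧ k * g ∉ T₁ ∧ k * (g * g) ∉ T₁ ∧
      k * k ∉ T₁ ∧ k * (k * g) ∉ T₁ ∧ k * (k * (g * g)) ∉ T₁ := by
  have e : ∀ {x : W} {T : Subgroup W}, x ^ 3 = 1 → x * x ∈ T → x ∈ T := by
    intro x T hx h1
    have h2 := mul_mem h1 h1
    have h4 : x * x * (x * x) = x := by
      calc x * x * (x * x) = x ^ 3 * x := by rw [pow_succ, pow_two]; simp only [mul_assoc]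
        _ = x := by rw [hx, one_mul]
    rwa [h4] at h2
  have hkk : k * k ∉ T₂ := fun h1 => hk (e k3 h1)
  refine ⟨hg, fun h1 => hg (e g3 h1), fun h1 => hk (hT h1), fun h1 => hk ?_, fun h1 => hk ?_,
    fun h1 => hkk (hT h1), fun h1 => hkk ?_, fun h1 => hkk ?_⟩
  · exact (Subgroup.mul_mem_cancel_right _ hg').1 (hT h1)
  · exact (Subgroup.mul_mem_cancel_right _ (mul_mem hg' hg')).1 (hT h1)
  · rw [← mul_assoc] at h1
    exact (Subgroup.mul_mem_cancel_right _ hg').1 (hT h1)
  · rw [← mul_assoc] at h1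
    exact (Subgroup.mul_mem_cancel_right _ (mul_mem hg' hg')).1 (hT h1)

include h in
/-- **M4a** -/
theorem trich (V : Subgroup W) (hc : ∀ v ∈ V, ∀ w ∈ V, v * w = w * v) (h3 : ∀ v ∈ V, v ^ 3 = 1)
    {S : Set (Fin l → ℤ)} (hS : S ⊆ LL cs hp)
    (hno : ∀ v ∈ V, ∀ a ∈ S, cpr cs hp.isCartan (rep cs hp.isCartan v a) a ≠ 1) {a : Fin l → ℤ} (ha : a ∈ S) :
    (∀ v ∈ V, rep cs hp.isCartan v a = a) ∨
    (∃ f ∈ V, cpr cs hp.isCartan (rep cs hp.isCartan f a) a = 0 ∧
      ∀ v ∈ V, ∃ j : ℕ, rep cs hp.isCartan v a = rep cs hp.isCartan (f ^ j) a) ∨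
    (∃ f ∈ V, a + rep cs hp.isCartan f a + rep cs hp.isCartan (f ^ 2) a = 0 ∧
      ∀ v ∈ V, ∃ j : ℕ, rep cs hp.isCartan v a = rep cs hp.isCartan (f ^ j) a) ∨
    (∃ f ∈ V, ∃ g ∈ V, a + rep cs hp.isCartan f a + rep cs hp.isCartan (f ^ 2) a = 0 ∧
      (∀ v ∈ V, ∃ i j : ℕ, rep cs hp.isCartan v a = rep cs hp.isCartan (g ^ i * f ^ j) a) ∧
      ∀ i j : ℕ, ¬ 3 ∣ i → cpr cs hp.isCartan (rep cs hp.isCartan (g ^ i * f ^ j) a) a = 0) := by
  have hfin := finite_W hp cs
  have hft := Fintype.ofFinite W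
  have H := rsys h hp cs
  have haL := hS ha
  have haa := H.two a haL
  -- the values
  have val : ∀ v ∈ V, rep cs hp.isCartan v a = a ∨ BB cs hp a (rep cs hp.isCartan v a) = 0 ∨
      (BB cs hp a (rep cs hp.isCartan v a) = -1 ∧
        a + rep cs hp.isCartan v a + rep cs hp.isCartan (v ^ 2) a = 0) := by
    intro v hv
    obtain ⟨n, hn⟩ := H.int a haL (rep cs hp.isCartan v a)
    have h1 : n ≠ 1 := by
      rintro rfl
      apply hno v hv a ha
      rw [BB_eq h hp cs _ haL] at hn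
      exact_mod_cast hn
    obtain ⟨l0, l1, l2, l4⟩ := H.le_two (a := rep cs hp.isCartan v a) (b := a) (by rw [BB_rep, haa]) haa
    have h5 : n ≤ 2 := by rw [hn] at l0; exact_mod_cast l0
    have h6 : -2 ≤ n := by rw [hn] at l1; exact_mod_cast l1
    have h7 : n ≠ -2 := by
      rintro rfl
      have h8 := l4 (by rw [hn]; norm_num)
      have h9 := rep_three hp cs (h3 v hv) a
      simp only [h8, map_neg, neg_neg] at h9
      have h10 : BB cs hp a a = BB cs hp (-a) a := by rw [h9]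
      rw [H.neg_left, haa] at h10
      norm_num at h10
    have hcases : n = 2 ∨ n = 0 ∨ n = -1 := by omega
    rcases hcases with rfl | rfl | rfl
    · left
      exact l2 (by rw [hn]; norm_num)
    · right; left
      rw [H.symm, hn, Int.cast_zero]
    · right; right
      have h8 : BB cs hp a (rep cs hp.isCartan v a) = -1 := by rw [H.symm, hn]; norm_num
      refine ⟨h8, ?_⟩
      have h9 : BB cs hp a (rep cs hp.isCartan (v ^ 2) a) = -1 := by
        rw [pow_two, rep_mul_apply, ← BB_rep hp cs v, rep_three hp cs (h3 v hv), H.symm, h8]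
      have h10 : BB cs hp (rep cs hp.isCartan v a) (rep cs hp.isCartan (v ^ 2) a) = -1 := by
        rw [pow_two, rep_mul_apply, BB_rep, h8]
      apply H.eq_zero
      simp only [H.add_left, H.add_right, BB_rep, haa, h8, h9, h10, H.symm (rep cs hp.isCartan v a) a,
        H.symm (rep cs hp.isCartan (v ^ 2) a) a, H.symm (rep cs hp.isCartan (v ^ 2) a) (rep cs hp.isCartan v a)]
      norm_num
  -- the subgroups
  have hO : ∀ {g f : W} (hg : g ∈ V) (hf : f ∈ V) {v : W}, v ∈ OT hp cs V hc h3 hg hf a →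
      ∃ i j : ℕ, rep cs hp.isCartan v a = rep cs hp.isCartan (g ^ i * f ^ j) a := fun hg hf v hv => hv.2
  by_cases hF : ∀ v ∈ V, rep cs hp.isCartan v a = a
  · exact Or.inl hF
  push Not at hF
  obtain ⟨f₀, hf₀, hf₀a⟩ := hF
  -- nine orthogonal roots
  have nine : ∀ (T₁ T₂ : Subgroup W), T₁ ≤ T₂ → (∀ v ∈ V, v ∉ T₁ → BB cs hp a (rep cs hp.isCartan v a) = 0) →
      ∀ g ∈ V, g ∉ T₁ → g ∈ T₂ → ∀ k ∈ V, k ∉ T₂ → False := by
    intro T₁ T₂ hT hz g hg hg1 hg2 k hk hk2
    obtain ⟨p1, p2, p3, p4, p5, p6, p7, p8⟩ := pow_ij hT hg1 hg2 hk2 (h3 g hg) (h3 k hk)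
    have hgg := mul_mem hg hg
    refine H.nineO (rank_le h hp) (w := rep cs hp.isCartan g) (v := rep cs hp.isCartan k) (BB_rep hp cs g)
      (rep_three hp cs (h3 g hg)) (BB_rep hp cs k) (rep_three hp cs (h3 k hk))
      (fun x => by rw [← rep_mul_apply, hc g hg k hk, rep_mul_apply]) haa (hz g hg p1) ?_ (hz k hk p3) ?_ ?_ ?_ ?_ ?_
    · rw [← rep_mul_apply]
      exact hz _ hgg p2
    · rw [← rep_mul_apply]
      exact hz _ (mul_mem hk hg) p4
    · rw [← rep_mul_apply, ← rep_mul_apply, mul_assoc]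
      exact hz _ (mul_mem hk hgg) p5
    · rw [← rep_mul_apply]
      exact hz _ (mul_mem hk hk) p6
    · rw [← rep_mul_apply, ← rep_mul_apply, mul_assoc]
      exact hz _ (mul_mem hk (mul_mem hk hg)) p7
    · rw [← rep_mul_apply, ← rep_mul_apply, ← rep_mul_apply, mul_assoc, mul_assoc]
      exact hz _ (mul_mem hk (mul_mem hk hgg)) p8
  have h1V : (1 : W) ∈ V := one_mem _
  by_cases hm : ∃ f ∈ V, BB cs hp a (rep cs hp.isCartan f a) = -1
  · right; right
    obtain ⟨f, hf, hfa⟩ := hm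
    have hsum : a + rep cs hp.isCartan f a + rep cs hp.isCartan (f ^ 2) a = 0 := by
      rcases val f hf with h1 | h1 | h1
      · rw [h1, haa] at hfa
        norm_num at hfa
      · rw [h1] at hfa
        norm_num at hfa
      · exact h1.2
    let T₁ := OT hp cs V hc h3 h1V hf a
    -- the roots outside the plane of `a` are orthogonal
    have key : ∀ v ∈ V, v ∉ T₁ → BB cs hp a (rep cs hp.isCartan v a) = 0 := by
      intro v hv hv1
      have hval : ∀ j : ℕ, BB cs hp a (rep cs hp.isCartan (v * f ^ j) a) = 0 ∨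
          BB cs hp a (rep cs hp.isCartan (v * f ^ j) a) = -1 := by
        intro j
        have hvj : v * f ^ j ∈ V := mul_mem hv (pow_mem hf j)
        rcases val _ hvj with h1 | h1 | h1
        · exfalso
          apply hv1
          have h2 : v * f ^ j ∈ T₁ := ⟨hvj, 0, 0, by rw [h1, pow_zero, pow_zero, one_mul, map_one, Module.End.one_apply]⟩
          have h4 : f ^ j ∈ T₁ := ⟨pow_mem hf j, 0, j, by rw [pow_zero, one_mul]⟩
          exact (Subgroup.mul_mem_cancel_right _ h4).1 h2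
        · exact Or.inl h1
        · exact Or.inr h1.1
      have h0 := hval 0
      have h1 := hval 1
      have h2 := hval 2
      have h4 : BB cs hp a (rep cs hp.isCartan v (a + rep cs hp.isCartan f a + rep cs hp.isCartan (f ^ 2) a)) = 0 := by
        rw [hsum, map_zero, H.zero_right]
      rw [map_add, map_add, H.add_right, H.add_right, ← rep_mul_apply, ← rep_mul_apply] at h4
      rw [pow_zero, mul_one] at h0
      rw [pow_one] at h1
      rcases h0 with h0 | h0
      · exact h0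
      · exfalso
        rw [h0] at h4
        rcases h1 with h1 | h1 <;> rcases h2 with h2 | h2 <;> rw [h1, h2] at h4 <;> norm_num at h4
    by_cases hA : ∀ v ∈ V, v ∈ T₁
    · left
      refine ⟨f, hf, hsum, fun v hv => ?_⟩
      obtain ⟨-, i, j, e⟩ := hA v hv
      exact ⟨j, by rw [e, one_pow, one_mul]⟩
    · right
      push Not at hA
      obtain ⟨g, hg, hg1⟩ := hA
      refine ⟨f, hf, g, hg, hsum, fun v hv => ?_, fun i j hij => ?_⟩
      · by_contra hcon
        push Not at hcon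
        refine nine T₁ (OT hp cs V hc h3 hg hf a) ?_ key g hg hg1 ⟨hg, 1, 0, by rw [pow_one, pow_zero, mul_one]⟩ v hv ?_
        · rintro x ⟨hx, i, j, e⟩
          exact ⟨hx, 0, j, by rw [e, one_pow, pow_zero]⟩
        · rintro ⟨-, i, j, e⟩
          exact hcon i j e
      · have hgi : g ^ i ∉ T₁ := by
          intro h1
          apply hg1
          have h3' := h3 g hg
          have h4 : i % 3 = 1 ∨ i % 3 = 2 := by omega
          have h5 : g ^ i = g ^ (i % 3) := by
            conv_lhs => rw [← Nat.div_add_mod i 3, pow_add, pow_mul, h3', one_pow, one_mul]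
          rw [h5] at h1
          rcases h4 with h4 | h4 <;> rw [h4] at h1
          · rwa [pow_one] at h1
          · have h6 := mul_mem h1 h1
            have h7 : g ^ 2 * g ^ 2 = g := by
              rw [← pow_add, show 2 + 2 = 3 + 1 by norm_num, pow_add, h3', one_mul, pow_one]
            rwa [h7] at h6
        have h1 : g ^ i * f ^ j ∉ T₁ := by
          intro h2
          have h4 : f ^ j ∈ T₁ := ⟨pow_mem hf j, 0, j, by rw [pow_zero, one_mul]⟩
          exact hgi ((Subgroup.mul_mem_cancel_right _ h4).1 h2)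
        have h2 := key _ (mul_mem (pow_mem hg i) (pow_mem hf j)) h1
        rw [H.symm, BB_eq h hp cs _ haL] at h2
        exact_mod_cast h2
  · right; left
    push Not at hm
    have key : ∀ v ∈ V, rep cs hp.isCartan v a ≠ a → BB cs hp a (rep cs hp.isCartan v a) = 0 := by
      intro v hv hva
      rcases val v hv with h1 | h1 | h1
      · exact absurd h1 hva
      · exact h1
      · exact absurd h1.1 (hm v hv)
    refine ⟨f₀, hf₀, ?_, fun v hv => ?_⟩
    · have h1 := key f₀ hf₀ hf₀a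
      rw [H.symm, BB_eq h hp cs _ haL] at h1
      exact_mod_cast h1
    · by_contra hcon
      push Not at hcon
      refine nine (OT hp cs V hc h3 h1V h1V a) (OT hp cs V hc h3 h1V hf₀ a) ?_ (fun w hw hw1 => ?_) f₀ hf₀ ?_
        ⟨hf₀, 0, 1, by rw [pow_zero, pow_one, one_mul]⟩ v hv ?_
      · rintro x ⟨hx, i, j, e⟩
        exact ⟨hx, 0, 0, by rw [e, one_pow, one_pow, pow_zero, pow_zero]⟩
      · refine key w hw fun e => hw1 ⟨hw, 0, 0, ?_⟩
        rw [e, pow_zero, one_mul, map_one, Module.End.one_apply]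
      · rintro ⟨-, i, j, e⟩
        apply hf₀a
        rw [e, one_pow, one_pow, one_mul, map_one, Module.End.one_apply]
      · rintro ⟨-, i, j, e⟩
        exact hcon j (by rw [e, one_pow, one_mul])

/-- **M4a** in the form of `H496/Mono/Stmt` -/
theorem ptrich {D : ChevalleyDatum} {l : ℕ} {M : CoxeterMatrix (Fin l)} (h : HiList D) (hp : IsType D l M) :
    H496.Mono.PTrich hp := fun V hc h3 _ hS _ hno _ ha => trich h hp M.toCoxeterSystem V hc h3 hS hno ha

end Cfsg.Agent.H875.Mono
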